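import Mathlib

/-!
# Morphisms congruent modulo a square-zero ideal of the base ring
-/

set_option autoImplicit false

universe u

open CategoryTheory AlgebraicGeometry Limits

namespace Groth.Agent.SqZero27

variable {R : Type u} [CommRing R] (J : Ideal R)

/-- The inclusion of `Spec (R/J)`. -/
noncomputable abbrev incl : Spec (CommRingCat.of (R ⧸ J)) ⟶ Spec (CommRingCat.of R) :=
  Spec.map (CommRingCat.ofHom (Ideal.Quotient.mk J))

variable {X Y Z : Over (Spec (CommRingCat.of R))}

/-- Two morphisms agree on the reduction. -/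
def Congr (f g : Y ⟶ X) : Prop :=
  pullback.fst Y.hom (incl J) ≫ f.left = pullback.fst Y.hom (incl J) ≫ g.left

lemma congr_of_map_eq {f g : Y ⟶ X} (h : (Over.pullback (incl J)).map f = (Over.pullback (incl J)).map g) :
    Congr J f g := by
  have h' := congrArg (fun m => m.left ≫ pullback.fst X.hom (incl J)) h
  simp only [Over.pullback_map_left, pullback.lift_fst] at h'
  exact h'

lemma surjective_fst (hJ : J * J = ⊥) (Y : Over (Spec (CommRingCat.of R))) :
    Surjective (pullback.fst Y.hom (incl J)) := by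
  have : Surjective (incl J) := ⟨fun p => by
    have hp : J ≤ p.asIdeal := fun x hx => by
      have h0 : x * x ∈ p.asIdeal := by
        have := Ideal.mul_mem_mul hx hx
        rw [hJ] at this
        rw [(Submodule.mem_bot R).mp this]; exact zero_mem _
      exact (p.2.mem_or_mem h0).elim id id
    obtain ⟨q, hq⟩ : p ∈ Set.range (PrimeSpectrum.comap (Ideal.Quotient.mk J)) := by
      rw [range_comap_of_surjective _ _ Ideal.Quotient.mk_surjective, Ideal.mk_ker]
      exact hp
    exact ⟨q, hq⟩⟩
  infer_instance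

lemma Congr.base_eq (hJ : J * J = ⊥) {f g : Y ⟶ X} (h : Congr J f g) (y : Y.left) :
    f.left y = g.left y := by
  obtain ⟨z, rfl⟩ := (surjective_fst J hJ Y).surj y
  exact congrArg (fun m : pullback Y.hom (incl J) ⟶ X.left => m z) h

/-- The ideal generated by `J` on an affine open. -/
noncomputable def ext (Y : Over (Spec (CommRingCat.of R))) {W : Y.left.Opens} (hW : IsAffineOpen W) :
    Ideal Γ(Y.left, W) :=
  J.map (Spec.preimage (hW.fromSpec ≫ Y.hom)).hom

lemma ext_mul_ext (hJ : J * J = ⊥) {W : Y.left.Opens} (hW : IsAffineOpen W) :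
    ext J Y hW * ext J Y hW = ⊥ := by
  rw [ext, ← Ideal.map_mul, hJ, Ideal.map_bot]

/-- Congruent morphisms give congruent ring maps. -/
lemma Congr.sub_mem {f g : Y ⟶ X} (h : Congr J f g) {U : X.left.Opens} (hU : IsAffineOpen U)
    {W : Y.left.Opens} (hW : IsAffineOpen W) (hf : W ≤ f.left ⁻¹ᵁ U) (hg : W ≤ g.left ⁻¹ᵁ U) (a : Γ(X.left, U)) :
    f.left.appLE U W hf a - g.left.appLE U W hg a ∈ ext J Y hW := by
  let φ := Spec.preimage (hW.fromSpec ≫ Y.hom)
  have hφ : Spec.map φ = hW.fromSpec ≫ Y.hom := Spec.map_preimage _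
  let K := ext J Y hW
  let π : Γ(Y.left, W) ⟶ CommRingCat.of (Γ(Y.left, W) ⧸ K) := CommRingCat.ofHom (Ideal.Quotient.mk K)
  let ψ : CommRingCat.of (R ⧸ J) ⟶ CommRingCat.of (Γ(Y.left, W) ⧸ K) :=
    CommRingCat.ofHom (Ideal.Quotient.lift J ((Ideal.Quotient.mk K).comp φ.hom) fun x hx =>
      Ideal.Quotient.eq_zero_iff_mem.mpr (Ideal.mem_map_of_mem _ hx))
  have hsq : CommRingCat.ofHom (Ideal.Quotient.mk J) ≫ ψ = φ ≫ π := by
    ext x
    simp [ψ, π]
  have hw : (Spec.map π ≫ hW.fromSpec) ≫ Y.hom = Spec.map ψ ≫ incl J := by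
    rw [Category.assoc, ← hφ, ← Spec.map_comp, ← Spec.map_comp, hsq]
  have h1 : (Spec.map π ≫ hW.fromSpec) ≫ f.left = (Spec.map π ≫ hW.fromSpec) ≫ g.left := by
    rw [← pullback.lift_fst _ _ hw, Category.assoc, Category.assoc, h]
  simp only [Category.assoc] at h1
  rw [← hU.SpecMap_appLE_fromSpec f.left hW hf, ← hU.SpecMap_appLE_fromSpec g.left hW hg, ← Spec.map_comp_assoc,
    ← Spec.map_comp_assoc, cancel_mono] at h1
  exact Ideal.Quotient.mk_eq_mk_iff_sub_mem _ _ |>.mp (RingHom.congr_fun (congrArg CommRingCat.Hom.hom (Spec.map_injective h1)) a)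

/-- A sum of square-zero deformations is a ring map. -/
noncomputable def combine {B C : Type u} [CommRing B] [CommRing C] (K : Ideal C) (hK : K * K = ⊥)
    (p q r : B →+* C) (hp : ∀ x, p x - r x ∈ K) (hq : ∀ x, q x - r x ∈ K) : B →+* C where
  toFun x := p x + q x - r x
  map_one' := by simp
  map_mul' x y := by
    have h1 : (p x - r x) * (q y - r y) = 0 := by
      simpa [hK] using Ideal.mul_mem_mul (hp x) (hq y)
    have h2 : (q x - r x) * (p y - r y) = 0 := by
      simpa [hK] using Ideal.mul_mem_mul (hq x) (hp y)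
    rw [map_mul, map_mul, map_mul]
    linear_combination -h1 - h2
  map_zero' := by simp
  map_add' x y := by simp only [map_add]; ring

lemma combine_apply {B C : Type u} [CommRing B] [CommRing C] (K : Ideal C) (hK : K * K = ⊥)
    (p q r : B →+* C) (hp : ∀ x, p x - r x ∈ K) (hq : ∀ x, q x - r x ∈ K) (x : B) :
    combine K hK p q r hp hq x = p x + q x - r x := rfl

/-- An endomorphism congruent to the identity is an isomorphism. -/
theorem isIso_left_of_congr_id (hJ : J * J = ⊥) (u : X ⟶ X) (h : Congr J u (𝟙 X)) : IsIso u.left := by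
  have hb : ∀ x, u.left x = x := fun x => h.base_eq J hJ x
  have hemb : Topology.IsOpenEmbedding u.left := by
    rw [show (u.left : X.left → X.left) = id from funext hb]
    exact Topology.IsOpenEmbedding.id
  have hs : ∀ x, IsIso (u.left.stalkMap x) := fun x => by
    obtain ⟨U, hU, hxU, -⟩ := exists_isAffineOpen_mem_and_subset (X := X.left) (x := x) (U := ⊤) trivial
    have hu : U ≤ u.left ⁻¹ᵁ U := fun y hy => by
      show u.left y ∈ U
      rw [hb]; exact hy
    let φ := u.left.appLE U U hu
    let K := ext J X hU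
    have hd : ∀ a, φ a - a ∈ K := fun a => by
      have h1 := h.sub_mem J hU hU hu (le_refl U) a
      rw [show (𝟙 X : X ⟶ X).left.appLE U U (le_refl U) = 𝟙 _ by simp [Scheme.Hom.appLE]; exact X.left.presheaf.map_id _] at h1
      simpa [φ] using h1
    let ρ := Spec.preimage (hU.fromSpec ≫ X.hom)
    have hρ : ρ ≫ φ = ρ := Spec.map_injective (by
      rw [Spec.map_comp, Spec.map_preimage, hU.SpecMap_appLE_fromSpec_assoc u.left hU hu, Over.w u])
    have hK0 : ∀ a ∈ K, φ a = a := by
      intro a ha
      change a ∈ Submodule.span _ (ρ.hom '' (J : Set R)) at ha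
      induction ha using Submodule.span_induction with
      | mem y hy =>
        obtain ⟨r, -, rfl⟩ := hy
        exact RingHom.congr_fun (congrArg CommRingCat.Hom.hom hρ) r
      | zero => exact map_zero _
      | add a b ha hb iha ihb => rw [map_add, iha, ihb]
      | smul c a ha iha =>
        have h0 : (φ c - c) * a = 0 := by
          have h2 : (φ c - c) * a ∈ K * K := Ideal.mul_mem_mul (hd c) ha
          rwa [show K * K = ⊥ from ext_mul_ext J hJ hU, Submodule.mem_bot] at h2
        rw [smul_eq_mul, map_mul, iha]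
        linear_combination h0
    have hbij : Function.Bijective φ := by
      refine ⟨(injective_iff_map_eq_zero φ.hom).mpr fun a ha => ?_, fun a => ⟨a - (φ a - a), ?_⟩⟩
      · have h1 := hd a
        rw [show φ a = 0 from ha, zero_sub, neg_mem_iff] at h1
        rw [← hK0 a h1]; exact ha
      · rw [map_sub, hK0 _ (hd a)]; ring
    have : IsIso φ := (ConcreteCategory.isIso_iff_bijective _).mpr hbij
    have heq : hU.fromSpec ≫ u.left = Spec.map φ ≫ hU.fromSpec := (hU.SpecMap_appLE_fromSpec u.left hU hu).symm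
    have : IsOpenImmersion (hU.fromSpec ≫ u.left) := heq ▸ inferInstance
    obtain ⟨p, rfl⟩ : x ∈ Set.range hU.fromSpec := by rw [hU.range_fromSpec]; exact hxU
    have hp : IsIso (u.left.stalkMap (hU.fromSpec p) ≫ hU.fromSpec.stalkMap p) := by
      rw [← Scheme.Hom.stalkMap_comp hU.fromSpec u.left p]
      exact (IsOpenImmersion.iff_isIso_stalkMap.mp ‹IsOpenImmersion (hU.fromSpec ≫ u.left)›).2 p
    exact IsIso.of_isIso_comp_right _ (hU.fromSpec.stalkMap p)
  have : IsOpenImmersion u.left := IsOpenImmersion.of_isIso_stalkMap u.left hemb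
  exact (isIso_iff_isOpenImmersion_and_surjective _).mpr ⟨inferInstance, ⟨fun x => ⟨x, hb x⟩⟩⟩

end Groth.Agent.SqZero27
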