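import Groth.Agent.SqZero27.Basic
import Mathlib

/-!
# The congruence kernel of a group scheme is commutative
-/

set_option autoImplicit false

universe u

open CategoryTheory AlgebraicGeometry Limits MonObj CartesianMonoidalCategory MonoidalCategory

namespace Groth.Agent.SqZero27

variable {R : Type u} [CommRing R] {J : Ideal R}
variable {X Y : Over (Spec (CommRingCat.of R))}

lemma Congr.lift {a b a' b' : Y ⟶ X} (h : Congr J a a') (h' : Congr J b b') :
    Congr J (lift a b) (lift a' b') := by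
  refine pullback.hom_ext (f := X.hom) (g := X.hom) ?_ ?_
  · show (_ ≫ _) ≫ (fst X X).left = (_ ≫ _) ≫ (fst X X).left
    rw [Category.assoc, Category.assoc, ← Over.comp_left, ← Over.comp_left, lift_fst, lift_fst]
    exact h
  · show (_ ≫ _) ≫ (snd X X).left = (_ ≫ _) ≫ (snd X X).left
    rw [Category.assoc, Category.assoc, ← Over.comp_left, ← Over.comp_left, lift_snd, lift_snd]
    exact h'

/-- Composition with a morphism on sections. -/
lemma appLE_apply_of_comp {A B C : Scheme.{u}} (f : A ⟶ B) (g : B ⟶ C) (fg : A ⟶ C) (h : f ≫ g = fg)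
    {U : C.Opens} {V : B.Opens} {W : A.Opens} (eV : V ≤ g ⁻¹ᵁ U) (eW : W ≤ f ⁻¹ᵁ V) (eU : W ≤ fg ⁻¹ᵁ U)
    (a : Γ(C, U)) : f.appLE V W eW (g.appLE U V eV a) = fg.appLE U W eU a := by
  subst h
  rw [← Scheme.Hom.appLE_comp_appLE f g U V W eV eW]
  rfl

variable [GrpObj X]

/-- Two points congruent to the unit commute. -/
theorem mul_comm_of_congr_one (hJ : J * J = ⊥) (g g' : Y ⟶ X) (hg : Congr J g 1) (hg' : Congr J g' 1) :
    g * g' = g' * g := by
  have hO : Congr J (1 : Y ⟶ X) 1 := rfl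
  refine Over.OverMorphism.ext (Scheme.hom_ext_of_forall _ _ fun y => ?_)
  obtain ⟨U, hU, hxU, -⟩ := exists_isAffineOpen_mem_and_subset (X := X.left) (x := (1 : Y ⟶ X).left y)
    (U := ⊤) trivial
  let P : (Y ⟶ X) → (Y ⟶ X) → (Y.left ⟶ (X ⊗ X).left) := fun a b => (CartesianMonoidalCategory.lift a b).left
  have hfst : ∀ a b, P a b ≫ (fst X X).left = a.left := fun a b => by
    simp only [P, ← Over.comp_left, lift_fst]
  have hsnd : ∀ a b, P a b ≫ (snd X X).left = b.left := fun a b => by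
    simp only [P, ← Over.comp_left, lift_snd]
  have hmul : ∀ a b, P a b ≫ μ[X].left = (a * b).left := fun a b => by
    simp only [P, ← Over.comp_left, Hom.mul_def]
  let O : (X ⊗ X).left.Opens := (fst X X).left ⁻¹ᵁ U ⊓ (snd X X).left ⁻¹ᵁ U ⊓ μ[X].left ⁻¹ᵁ U
  have hyO : P 1 1 y ∈ O := by
    refine ⟨⟨?_, ?_⟩, ?_⟩ <;> show _ ∈ U
    · rw [← Scheme.Hom.comp_apply, hfst]; exact hxU
    · rw [← Scheme.Hom.comp_apply, hsnd]; exact hxU
    · rw [← Scheme.Hom.comp_apply, hmul, _root_.one_mul]; exact hxU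
  obtain ⟨W', hW', hyW', hW'O⟩ := exists_isAffineOpen_mem_and_subset hyO
  obtain ⟨W, hW, hyW, hWP⟩ := exists_isAffineOpen_mem_and_subset (X := Y.left) (x := y)
    (U := P 1 1 ⁻¹ᵁ W') hyW'
  have e1 : W' ≤ (fst X X).left ⁻¹ᵁ U := fun x hx => (hW'O hx).1.1
  have e2 : W' ≤ (snd X X).left ⁻¹ᵁ U := fun x hx => (hW'O hx).1.2
  have e3 : W' ≤ μ[X].left ⁻¹ᵁ U := fun x hx => (hW'O hx).2
  have eP : ∀ a b, Congr J a 1 → Congr J b 1 → W ≤ P a b ⁻¹ᵁ W' := fun a b ha hb x hx => by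
    show (CartesianMonoidalCategory.lift a b).left x ∈ W'
    rw [(ha.lift hb).base_eq J hJ x]
    exact hWP hx
  let K := ext J Y hW
  have hK : K * K = ⊥ := ext_mul_ext J hJ hW
  let hom : ∀ a b, Congr J a 1 → Congr J b 1 → (Γ((X ⊗ X).left, W') →+* Γ(Y.left, W)) := fun a b ha hb =>
    ((P a b).appLE W' W (eP a b ha hb)).hom
  have hd : ∀ a b (ha : Congr J a 1) (hb : Congr J b 1) z, hom a b ha hb z - hom 1 1 hO hO z ∈ K :=
    fun a b ha hb z => (ha.lift hb).sub_mem J hW' hW (eP a b ha hb) (eP 1 1 hO hO) z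
  have key : ∀ a b (ha : Congr J a 1) (hb : Congr J b 1),
      hom a b ha hb = combine K hK (hom a 1 ha hO) (hom 1 b hO hb) (hom 1 1 hO hO) (hd a 1 ha hO) (hd 1 b hO hb) := by
    intro a b ha hb
    set c := combine K hK (hom a 1 ha hO) (hom 1 b hO hb) (hom 1 1 hO hO) (hd a 1 ha hO) (hd 1 b hO hb) with hc
    have h1 : Spec.map (CommRingCat.ofHom c) ≫ hW'.fromSpec = hW.fromSpec ≫ P a b := by
      refine pullback.hom_ext (f := X.hom) (g := X.hom) ?_ ?_
      · show (_ ≫ _) ≫ (fst X X).left = (_ ≫ _) ≫ (fst X X).left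
        have ea : W ≤ a.left ⁻¹ᵁ U := fun x hx => by
          show a.left x ∈ U
          rw [← hfst a b]; exact e1 (eP a b ha hb hx)
        rw [Category.assoc, Category.assoc, hfst, ← hU.SpecMap_appLE_fromSpec (fst X X).left hW' e1,
          ← hU.SpecMap_appLE_fromSpec a.left hW ea, ← Spec.map_comp_assoc]
        refine congrArg (Spec.map · ≫ hU.fromSpec) ?_
        ext z
        show c ((fst X X).left.appLE U W' e1 z) = a.left.appLE U W ea z
        have eo : W ≤ (1 : Y ⟶ X).left ⁻¹ᵁ U := fun x hx => by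
          show (1 : Y ⟶ X).left x ∈ U
          rw [← hfst 1 b]; exact e1 (eP 1 b hO hb hx)
        rw [hc, combine_apply]
        simp only [hom, CommRingCat.hom_ofHom]
        rw [appLE_apply_of_comp _ _ a.left (hfst a 1) e1 (eP a 1 ha hO) ea z,
          appLE_apply_of_comp _ _ (1 : Y ⟶ X).left (hfst 1 b) e1 (eP 1 b hO hb) eo z,
          appLE_apply_of_comp _ _ (1 : Y ⟶ X).left (hfst 1 1) e1 (eP 1 1 hO hO) eo z, add_sub_cancel_right]
      · show (_ ≫ _) ≫ (snd X X).left = (_ ≫ _) ≫ (snd X X).left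
        have eb : W ≤ b.left ⁻¹ᵁ U := fun x hx => by
          show b.left x ∈ U
          rw [← hsnd a b]; exact e2 (eP a b ha hb hx)
        rw [Category.assoc, Category.assoc, hsnd, ← hU.SpecMap_appLE_fromSpec (snd X X).left hW' e2,
          ← hU.SpecMap_appLE_fromSpec b.left hW eb, ← Spec.map_comp_assoc]
        refine congrArg (Spec.map · ≫ hU.fromSpec) ?_
        ext z
        show c ((snd X X).left.appLE U W' e2 z) = b.left.appLE U W eb z
        have eo : W ≤ (1 : Y ⟶ X).left ⁻¹ᵁ U := fun x hx => by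
          show (1 : Y ⟶ X).left x ∈ U
          rw [← hsnd a 1]; exact e2 (eP a 1 ha hO hx)
        rw [hc, combine_apply]
        simp only [hom, CommRingCat.hom_ofHom]
        rw [appLE_apply_of_comp _ _ (1 : Y ⟶ X).left (hsnd a 1) e2 (eP a 1 ha hO) eo z,
          appLE_apply_of_comp _ _ b.left (hsnd 1 b) e2 (eP 1 b hO hb) eb z,
          appLE_apply_of_comp _ _ (1 : Y ⟶ X).left (hsnd 1 1) e2 (eP 1 1 hO hO) eo z, add_sub_cancel_left]
    rw [← hW'.SpecMap_appLE_fromSpec (P a b) hW (eP a b ha hb), cancel_mono] at h1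
    exact (congrArg CommRingCat.Hom.hom (Spec.map_injective h1)).symm
  refine ⟨W, hyW, ?_⟩
  have hmeq : ∀ (a b : Y ⟶ X) (ha : Congr J a 1) (hb : Congr J b 1), W ≤ (a * b).left ⁻¹ᵁ U := fun a b ha hb x hx => by
    show (a * b).left x ∈ U
    rw [← hmul a b]; exact e3 (eP a b ha hb hx)
  have eg : W ≤ g.left ⁻¹ᵁ U := fun x hx => by
    show g.left x ∈ U
    rw [← hfst g 1]; exact e1 (eP g 1 hg hO hx)
  have eg' : W ≤ g'.left ⁻¹ᵁ U := fun x hx => by
    show g'.left x ∈ U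
    rw [← hfst g' 1]; exact e1 (eP g' 1 hg' hO hx)
  have eo : W ≤ (1 : Y ⟶ X).left ⁻¹ᵁ U := fun x hx => by
    show (1 : Y ⟶ X).left x ∈ U
    rw [← hfst 1 1]; exact e1 (eP 1 1 hO hO hx)
  have formula : ∀ (a b : Y ⟶ X) (ha : Congr J a 1) (hb : Congr J b 1) (ea : W ≤ a.left ⁻¹ᵁ U) (eb : W ≤ b.left ⁻¹ᵁ U) z,
      (a * b).left.appLE U W (hmeq a b ha hb) z =
        a.left.appLE U W ea z + b.left.appLE U W eb z - (1 : Y ⟶ X).left.appLE U W eo z := by
    intro a b ha hb ea eb z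
    rw [← appLE_apply_of_comp _ _ _ (hmul a b) e3 (eP a b ha hb) (hmeq a b ha hb) z]
    show hom a b ha hb _ = _
    rw [key a b ha hb, combine_apply]
    simp only [hom]
    rw [appLE_apply_of_comp _ _ a.left ((hmul a 1).trans (by rw [_root_.mul_one])) e3 (eP a 1 ha hO) ea z,
      appLE_apply_of_comp _ _ b.left ((hmul 1 b).trans (by rw [_root_.one_mul])) e3 (eP 1 b hO hb) eb z,
      appLE_apply_of_comp _ _ (1 : Y ⟶ X).left ((hmul 1 1).trans (by rw [_root_.one_mul])) e3 (eP 1 1 hO hO) eo z]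
  have h2 : hW.fromSpec ≫ (g * g').left = hW.fromSpec ≫ (g' * g).left := by
    rw [← hU.SpecMap_appLE_fromSpec (g * g').left hW (hmeq g g' hg hg'),
      ← hU.SpecMap_appLE_fromSpec (g' * g).left hW (hmeq g' g hg' hg)]
    refine congrArg (Spec.map · ≫ hU.fromSpec) ?_
    ext z
    rw [formula g g' hg hg' eg eg' z, formula g' g hg' hg eg' eg z]
    ring
  rw [← cancel_epi hW.isoSpec.inv, ← Category.assoc, ← Category.assoc, hW.isoSpec_inv_ι]
  exact h2

end Groth.Agent.SqZero27
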